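import Cfsg.Agent.H730.PairCrd
import Cfsg.Agent.H671.Link
import Cfsg.Agent.H672.Over
import Cfsg.Agent.H672.Four.Interface

/-!
# Characters of a minimal normal subgroup moved by two outer primes (helper401, S4773)

* `exists_char` : colourings of the factors of a non-abelian minimal normal subgroup give irreducible characters;
* `core` : `N` non-abelian minimal normal, `C_G(N) = 1`, `p ≠ q` primes: some `θ ∈ Irr(N)` has an orbit whose length is
  divisible by `p` (if `p` divides `|G|` but not `|N|`) and by `q` (similarly).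
-/

set_option autoImplicit false
set_option linter.unusedSectionVars false

namespace Cfsg.Agent.H401.DG4

open Cfsg Cfsg.Agent.H713 Cfsg.Agent.H716.VanRed Cfsg.Agent.H730 Cfsg.Agent.H730.Col
  Cfsg.Agent.H730.PairCrd Subgroup Cfsg.Agent.Characters.Core Cfsg.Agent.H672.Four

universe u

/-- The factors of a product of irreducible characters are determined by the product. -/
theorem prod_inj {S ι : Type*} [Group S] [Finite S] [Fintype ι] {φ ψ : ι → S → ℂ}
    (hφ : ∀ i, IsIrrCharacter S (φ i)) (hψ : ∀ i, IsIrrCharacter S (ψ i))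
    (h : ∀ n : ι → S, ∏ i, φ i (n i) = ∏ i, ψ i (n i)) (i : ι) : φ i = ψ i := by
  classical
  have hone : ∏ j ∈ Finset.univ.erase i, φ j 1 ≠ 0 :=
    Finset.prod_ne_zero_iff.2 fun j _ => isIrr_apply_one_ne_zero (hφ j)
  have hone' : ∏ j ∈ Finset.univ.erase i, ψ j 1 ≠ 0 :=
    Finset.prod_ne_zero_iff.2 fun j _ => isIrr_apply_one_ne_zero (hψ j)
  have key : ∀ s : S, φ i s * ∏ j ∈ Finset.univ.erase i, φ j 1 = ψ i s * ∏ j ∈ Finset.univ.erase i, ψ j 1 := by
    intro s
    have h1 := h (Pi.mulSingle i s)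
    rw [← Finset.mul_prod_erase _ _ (Finset.mem_univ i), ← Finset.mul_prod_erase _ _ (Finset.mem_univ i),
      Pi.mulSingle_eq_same] at h1
    have h2 : ∏ j ∈ Finset.univ.erase i, φ j ((Pi.mulSingle i s : ι → S) j) = ∏ j ∈ Finset.univ.erase i, φ j 1 :=
      Finset.prod_congr rfl fun j hj => by rw [Pi.mulSingle_eq_of_ne (Finset.ne_of_mem_erase hj)]
    have h3 : ∏ j ∈ Finset.univ.erase i, ψ j ((Pi.mulSingle i s : ι → S) j) = ∏ j ∈ Finset.univ.erase i, ψ j 1 :=
      Finset.prod_congr rfl fun j hj => by rw [Pi.mulSingle_eq_of_ne (Finset.ne_of_mem_erase hj)]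
    rw [h2, h3] at h1
    exact h1
  -- `φ i = c • ψ i`
  by_contra hne
  set c : ℂ := (∏ j ∈ Finset.univ.erase i, ψ j 1) / ∏ j ∈ Finset.univ.erase i, φ j 1 with hc
  have h1 : ∀ s, φ i s = ψ i s * c := by
    intro s
    rw [hc, mul_div_assoc', eq_div_iff hone]
    exact key s
  have := Fintype.ofFinite S
  have h2 := classInner_irr_ne (hφ i) (hψ i) hne
  have h3 := classInner_irr_self (hφ i)
  have h4 : φ i = c • ψ i := by
    funext s
    rw [Pi.smul_apply, smul_eq_mul, h1, mul_comm]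
  have h5 : classInner (φ i) (φ i) = (starRingEnd ℂ) c * classInner (φ i) (ψ i) := by
    conv_lhs => rw [classInner_def]
    rw [classInner_def]
    have : ∀ s, φ i s * (starRingEnd ℂ) (φ i s) = (starRingEnd ℂ) c * (φ i s * (starRingEnd ℂ) (ψ i s)) := by
      intro s
      conv_lhs => rw [show (starRingEnd ℂ) (φ i s) = (starRingEnd ℂ) (ψ i s) * (starRingEnd ℂ) c by
        rw [h1 s, map_mul]]
      ring
    rw [Finset.sum_congr rfl fun s _ => this s, ← Finset.mul_sum]
    ring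
  rw [h3, h2, mul_zero] at h5
  exact one_ne_zero h5

section crd

variable {G : Type u} [Group G] [Finite G] {m : ℕ} {N : Subgroup G} [N.Normal] {T : Fin m → Subgroup G}
  {e : N ≃* (∀ i, T i)}

/-- **Characters from families of characters of one factor.** -/
theorem exists_char (C : Crd N T e) (x : Fin m) (χ : Fin m → IrrCharacter (T x)) :
    let _ := C.act
    ∃ θ : IrrCharacter N,
      (∀ j, charDegree (χ j : T x → ℂ) ∣ charDegree (θ : N → ℂ)) ∧
      (∀ i j, i ≠ j → charDegree (χ i : T x → ℂ) * charDegree (χ j : T x → ℂ) ∣ charDegree (θ : N → ℂ)) ∧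
      (∀ g ∈ H672.inertia N (θ : N → ℂ), ∀ j : Fin m, ¬ AutNe (χ (g • j)) (χ j)) ∧
      ∃ β : T x ≃* T x, ∀ g ∈ H672.inertia N (θ : N → ℂ), ∀ t s : T x, (s : G) = g * t * g⁻¹ →
        (χ x : T x → ℂ) (β s) = (χ x : T x → ℂ) (β t) := by
  classical
  intro _
  choose a ha using fun j => C.trans x j
  let b : ∀ j, T x ≃* T j := fun j => conjIso (a j) (ha j)
  have hfT : Finite (T x) := inferInstance
  let Θ : N → ℂ := fun n => ∏ j, (χ j : T x → ℂ) ((b j).symm (e n j))
  let E : N ≃* (Fin m → T x) := e.trans (MulEquiv.piCongrRight fun j => (b j).symm)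
  have hΘ : IsIrrCharacter N Θ := by
    have h1 := H671.Link.isIrr_pi (ι := Fin m) (θ := fun j => (χ j : T x → ℂ)) fun j => (χ j).2
    exact isIrr_comp (E : N →* (Fin m → T x)) E.surjective h1
  have hEs : ∀ n' : Fin m → T x, ∃ n : N, ∀ j, (b j).symm (e n j) = n' j := by
    intro n'
    obtain ⟨n, hn⟩ := E.surjective n'
    exact ⟨n, fun j => congrFun hn j⟩
  have hdeg : charDegree Θ = ∏ j, charDegree (χ j : T x → ℂ) := by
    apply H672.charDegree_of_eq
    push_cast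
    show ∏ j, (χ j : T x → ℂ) ((b j).symm (e 1 j)) = _
    refine Finset.prod_congr rfl fun j _ => ?_
    rw [map_one, Pi.one_apply, map_one, H672.coe_charDegree (χ j).2]
  refine ⟨⟨Θ, hΘ⟩, ?_, ?_, ?_, (b x).symm, ?_⟩
  · intro j
    show _ ∣ charDegree Θ
    rw [hdeg]
    exact Finset.dvd_prod_of_mem (fun j => charDegree (χ j : T x → ℂ)) (Finset.mem_univ j)
  · intro i j hij
    show _ ∣ charDegree Θ
    rw [hdeg, ← Finset.mul_prod_erase _ _ (Finset.mem_univ i),
      ← Finset.mul_prod_erase _ _ (Finset.mem_erase.2 ⟨hij.symm, Finset.mem_univ j⟩), ← mul_assoc]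
    exact Dvd.intro _ rfl
  · intro g hg
    have hg' : ∀ n : N, Θ (MulAut.conjNormal g n) = Θ n := fun n => congrFun (H672.mem_inertia.1 hg) n
    let γ : ∀ j : Fin m, T x ≃* T x := fun j =>
      ((b j).trans (conjIso g (C.act_spec g j))).trans (b (g • j)).symm
    have hprod : ∀ n' : Fin m → T x, ∏ j, ((χ (g • j) : T x → ℂ) ∘ γ j) (n' j) =
        ∏ j, (χ j : T x → ℂ) (n' j) := by
      intro n'
      obtain ⟨n, hn⟩ := hEs n'
      have h1 := hg' n
      have h2 : Θ n = ∏ j, (χ j : T x → ℂ) (n' j) := by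
        show ∏ j, (χ j : T x → ℂ) ((b j).symm (e n j)) = _
        exact Finset.prod_congr rfl fun j _ => by rw [hn j]
      have h3 : Θ (MulAut.conjNormal g n) = ∏ j, ((χ (g • j) : T x → ℂ) ∘ γ j) (n' j) := by
        show ∏ k, (χ k : T x → ℂ) ((b k).symm (e (MulAut.conjNormal g n) k)) = _
        rw [← Equiv.prod_comp (MulAction.toPerm g)]
        refine Finset.prod_congr rfl fun j _ => ?_
        show (χ (g • j) : T x → ℂ) ((b (g • j)).symm (e (MulAut.conjNormal g n) (g • j))) = _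
        have h4 : e (MulAut.conjNormal g n) (g • j) = conjIso g (C.act_spec g j) (e n j) := by
          apply Subtype.ext
          rw [coord_conj e C.le C.sgl C.coord g j (g • j) (C.act_spec g j) n, conjIso_apply]
        rw [h4]
        have h5 : e n j = b j (n' j) := by rw [← hn j, MulEquiv.apply_symm_apply]
        rw [h5]
        rfl
      rw [← h3, h1, h2]
    have hirr : ∀ j, IsIrrCharacter (T x) ((χ (g • j) : T x → ℂ) ∘ γ j) := fun j =>
      isIrr_comp (γ j : T x →* T x) (γ j).surjective (χ (g • j)).2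
    have h6 := fun j => prod_inj hirr (fun j => (χ j).2) hprod j
    intro j hcj
    exact hcj (γ j) (h6 j)
  · intro g hg t s hs
    have hg' : ∀ n : N, Θ (MulAut.conjNormal g n) = Θ n := fun n => congrFun (H672.mem_inertia.1 hg) n
    have key : ∀ t : T x, Θ ⟨t, C.le x t.2⟩ = (χ x : T x → ℂ) ((b x).symm t) *
        ∏ j ∈ Finset.univ.erase x, (χ j : T x → ℂ) 1 := by
      intro t
      show ∏ j, (χ j : T x → ℂ) ((b j).symm (e ⟨t, C.le x t.2⟩ j)) = _
      rw [← Finset.mul_prod_erase _ _ (Finset.mem_univ x), C.coord_sgl, Pi.mulSingle_eq_same]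
      congr 1
      refine Finset.prod_congr rfl fun j hj => ?_
      rw [Pi.mulSingle_eq_of_ne (Finset.ne_of_mem_erase hj), map_one]
    have h1 := hg' ⟨t, C.le x t.2⟩
    have h2 : MulAut.conjNormal g (⟨t, C.le x t.2⟩ : N) = ⟨s, C.le x s.2⟩ := by
      apply Subtype.ext
      rw [MulAut.conjNormal_apply]
      exact hs.symm
    rw [h2, key, key] at h1
    have hone : ∏ j ∈ Finset.univ.erase x, (χ j : T x → ℂ) 1 ≠ 0 :=
      Finset.prod_ne_zero_iff.2 fun j _ => isIrr_apply_one_ne_zero (χ j).2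
    exact mul_right_cancel₀ hone h1

/-- The Sylow `p`-subgroups centralising a factor centralise `N`, if all `p`-elements normalise the factors. -/
theorem le_cent (C : Crd N T e) {p : ℕ} [hp : Fact p.Prime] {x : Fin m}
    (hfix : ∀ (g : G) (k : ℕ), g ^ p ^ k = 1 → ∀ i, (T i).map (MulAut.conj g).toMonoidHom = T i)
    (Q : Sylow p G) (h1 : (Q : Subgroup G) ≤ centralizer (T x : Set G)) :
    (Q : Subgroup G) ≤ centralizer (N : Set G) := by
  have hpel : ∀ (P : Sylow p G) (u : G), u ∈ P → ∃ k, u ^ p ^ k = 1 := by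
    intro P u hu
    obtain ⟨k, hk⟩ := P.2 ⟨u, hu⟩
    exact ⟨k, congrArg Subtype.val hk⟩
  -- all Sylow subgroups centralise `T x`
  have hnor : ∀ P : Sylow p G, (P : Subgroup G) ≤ normalizer (T x : Set G) := by
    intro P u hu
    obtain ⟨k, hk⟩ := hpel P u hu
    exact mem_normalizer_of_map (hfix u k hk x)
  have h2 : ∀ P : Sylow p G, (P : Subgroup G) ≤ centralizer (T x : Set G) := by
    intro P
    obtain ⟨b, hb⟩ := MulAction.exists_smul_eq ↥(normalizer (T x : Set G)) (Q.subtype (hnor Q)) (P.subtype (hnor P))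
    intro y hy
    have h3 : (⟨y, hnor P hy⟩ : normalizer (T x : Set G)) ∈ (b • Q.subtype (hnor Q) : Sylow p _) := by
      rw [hb]
      exact hy
    obtain ⟨z, hz, hzy⟩ := h3
    have hz' : (z : G) ∈ Q := hz
    have hzy' : (b : G) * z * (b : G)⁻¹ = y := congrArg Subtype.val hzy
    rw [← hzy', Subgroup.mem_centralizer_iff]
    intro t ht
    have h4 : (b : G)⁻¹ * t * b ∈ T x := by
      have h5 := (Subgroup.mem_normalizer_iff.1 b.2 ((b : G)⁻¹ * t * b)).2
      apply h5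
      have h6 : (b : G) * ((b : G)⁻¹ * t * b) * (b : G)⁻¹ = t := by group
      rw [h6]
      exact ht
    have h5 := Subgroup.mem_centralizer_iff.1 (h1 hz') _ h4
    calc t * ((b : G) * z * (b : G)⁻¹) = b * (((b : G)⁻¹ * t * b) * z) * (b : G)⁻¹ := by group
      _ = b * (z * ((b : G)⁻¹ * t * b)) * (b : G)⁻¹ := by rw [h5]
      _ = _ := by group
  -- all Sylow subgroups centralise all factors
  intro u hu
  refine mem_centralizer_of_forall C fun j => ?_
  obtain ⟨a, ha⟩ := C.trans x j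
  have h4 : a⁻¹ * u * a ∈ ((a⁻¹ • Q : Sylow p G) : Subgroup G) := by
    rw [Sylow.coe_subgroup_smul]
    refine ⟨u, hu, ?_⟩
    show a⁻¹ * u * (a⁻¹)⁻¹ = _
    rw [inv_inv]
  have h5 := Subgroup.mem_centralizer_iff.1 (h2 _ h4)
  rw [Subgroup.mem_centralizer_iff]
  intro t ht
  have ht' : t ∈ T j := ht
  rw [ha] at ht'
  obtain ⟨z, hz, rfl⟩ := ht'
  have h6 := h5 z hz
  show a * z * a⁻¹ * u = u * (a * z * a⁻¹)
  calc a * z * a⁻¹ * u = a * (z * (a⁻¹ * u * a)) * a⁻¹ := by group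
    _ = a * ((a⁻¹ * u * a) * z) * a⁻¹ := by rw [h6]
    _ = _ := by group

/-- a `p`-element normalising `T x` and fixing a moved character centralises `T x` -/
theorem mem_centralizer_of_moved {A : Subgroup G} {p : ℕ} [hp : Fact p.Prime] (hpT : ¬ p ∣ Nat.card A)
    {φ : IrrCharacter A} (hφ : Moved φ) (β : A ≃* A) {u : G} {k : ℕ} (hk : u ^ p ^ k = 1)
    (hu : A.map (MulAut.conj u).toMonoidHom = A)
    (hun : ∀ t s : A, (s : G) = u * t * u⁻¹ → (φ : A → ℂ) (β s) = (φ : A → ℂ) (β t)) :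
    u ∈ centralizer (A : Set G) := by
  by_contra hgc
  have hgn := mem_normalizer_of_map hu
  set ρ : normalizer (A : Set G) →* MulAut A := A.normalizerMonoidHom with hρ
  have hρa : ∀ (h : normalizer (A : Set G)) (z : A), ((ρ h z : A) : G) = h * z * (h : G)⁻¹ :=
    fun h z => rfl
  set α0 := ρ ⟨u, hgn⟩ with hα0
  have h1 : α0 ≠ 1 := by
    intro h
    apply hgc
    rw [Subgroup.mem_centralizer_iff]
    intro z hz
    have h2 := hρa ⟨u, hgn⟩ ⟨z, hz⟩
    rw [← hα0, h] at h2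
    have h3 : z = u * z * u⁻¹ := h2
    exact (eq_mul_inv_iff_mul_eq.1 h3)
  have h2 : α0 ^ p ^ k = 1 := by
    rw [hα0, ← map_pow]
    have : (⟨u, hgn⟩ : normalizer (A : Set G)) ^ p ^ k = 1 := by
      apply Subtype.ext
      rw [SubmonoidClass.coe_pow, Subgroup.coe_one, hk]
    rw [this, map_one]
  obtain ⟨j, -, hj⟩ := (Nat.dvd_prime_pow hp.1).1 (orderOf_dvd_of_pow_eq_one h2)
  have hj0 : j ≠ 0 := by
    rintro rfl
    rw [pow_zero, orderOf_eq_one_iff] at hj
    exact h1 hj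
  obtain ⟨l, rfl⟩ := Nat.exists_eq_succ_of_ne_zero hj0
  have h3 : orderOf (α0 ^ p ^ l) = p := by
    rw [orderOf_pow_of_dvd (pow_ne_zero _ hp.1.ne_zero) (by rw [hj]; exact pow_dvd_pow _ (Nat.le_succ l)), hj]
    rw [Nat.succ_eq_add_one, pow_succ, Nat.mul_div_cancel_left _ (pow_pos hp.1.pos _)]
  -- `u` fixes the character
  have h4 : ∀ t : A, (φ : A → ℂ) (β (α0 t)) = (φ : A → ℂ) (β t) := fun t => hun t _ (hρa ⟨u, hgn⟩ t)
  have h5 : ∀ (j : ℕ) (t : A), (φ : A → ℂ) (β ((α0 ^ j) t)) = (φ : A → ℂ) (β t) := by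
    intro j
    induction j with
    | zero => intro t; rfl
    | succ j ih =>
      intro t
      rw [pow_succ, MulAut.mul_apply, ih, h4]
  let α : MulAut A := MulAut.congr β (α0 ^ p ^ l)
  have hα : orderOf α = p := by
    rw [← h3]
    exact orderOf_injective (MulAut.congr β).toMonoidHom (MulAut.congr β).injective _
  refine hφ α (by rw [hα]; exact hp.1) (by rw [hα]; exact hpT) ?_
  funext s
  show (φ : A → ℂ) (β ((α0 ^ p ^ l) (β.symm s))) = _
  rw [h5, MulEquiv.apply_symm_apply]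

/-- `r`-elements move the factors -/
def Perm (C : Crd N T e) (r : ℕ) : Prop :=
  let _ := C.act
  ∃ (g : G) (k : ℕ) (i : Fin m), g ^ r ^ k = 1 ∧ g • i ≠ i

theorem fix_of_not_perm (C : Crd N T e) {r : ℕ} (hr : ¬ Perm C r) (g : G) (k : ℕ) (hk : g ^ r ^ k = 1) (i : Fin m) :
    (T i).map (MulAut.conj g).toMonoidHom = T i := by
  by_contra h
  exact hr ⟨g, k, i, hk, fun h1 => h ((C.smul_eq_iff g i).1 h1)⟩

/-- a prime which does not permute the factors -/
theorem dvd_of_not_perm (C : Crd N T e) {x : Fin m} {θ : IrrCharacter N} {φ : IrrCharacter (T x)} (hφ : Moved φ)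
    {β : T x ≃* T x} (hβ : ∀ g ∈ H672.inertia N (θ : N → ℂ), ∀ t s : T x, (s : G) = g * t * g⁻¹ →
        (φ : T x → ℂ) (β s) = (φ : T x → ℂ) (β t)) {r : ℕ} [hr : Fact r.Prime] (hperm : ¬ Perm C r)
    (hrG : r ∣ (centralizer (N : Set G)).index) (hrN : ¬ r ∣ Nat.card N) : r ∣ (H672.inertia N (θ : N → ℂ)).index := by
  by_contra hcon
  obtain ⟨Q, hQ⟩ := exists_sylow_le hcon
  refine not_dvd_index_of_le Q (le_cent C (x := x) (fix_of_not_perm C hperm) Q fun u hu => ?_) hrG
  obtain ⟨k, hk⟩ := Q.2 ⟨u, hu⟩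
  have hk' : u ^ r ^ k = 1 := congrArg Subtype.val hk
  exact mem_centralizer_of_moved (fun h => hrN (h.trans (Subgroup.card_dvd_of_le (C.le x)))) hφ β hk'
    (fix_of_not_perm C hperm u k hk' x) (hβ u (hQ hu))

theorem trans_act (C : Crd N T e) :
    let _ := C.act
    ∀ i j : Fin m, ∃ a : G, a • i = j := by
  intro _ i j
  obtain ⟨a, ha⟩ := C.trans i j
  refine ⟨a, C.inj ?_⟩
  rw [C.act_spec a i, ha]

/-- the cycles -/
theorem exists_cyc (C : Crd N T e) (x : Fin m) {r : ℕ} (hr : r.Prime) :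
    let _ := C.act
    ∃ Δ : Finset (Fin m), x ∈ Δ ∧ Δ.card ≤ r ∧ (Perm C r →
      ∃ (g : G) (k : ℕ), g ^ r ^ k = 1 ∧ g • x ≠ x ∧ (∀ j ∈ Δ, g • j ∈ Δ) ∧ ∀ j ∈ Δ, g⁻¹ • j ∈ Δ) := by
  intro _
  have : Fact r.Prime := ⟨hr⟩
  by_cases h : Perm C r
  · obtain ⟨g, k, Δ, h1, h2, h3, h4, h5, h6⟩ := exists_cycle (trans_act C) h x
    exact ⟨Δ, h2, h3, fun _ => ⟨g, k, h1, h4, h5, h6⟩⟩
  · exact ⟨{x}, Finset.mem_singleton_self x, by rw [Finset.card_singleton]; exact hr.one_lt.le,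
      fun h1 => absurd h1 h⟩

theorem not_comm (C : Crd N T e) (x : Fin m) : ¬ IsMulCommutative (T x) := by
  intro h
  obtain ⟨a, b, hab⟩ := C.na x
  exact hab (h.is_comm.comm a b)

/-- four characters in different orbits of the automorphism group -/
theorem exists_four (hF : FactFour.{u}) {S : Type u} [Group S] [Finite S] [IsSimpleGroup S] (hna : ¬ IsMulCommutative S)
    (φ : IrrCharacter S) : ∃ χ : Fin 4 → IrrCharacter S, χ 0 = φ ∧ ∀ a b, a ≠ b → AutNe (χ a) (χ b) := by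
  obtain ⟨ψ, h1, h2, h3⟩ := hF S hna φ
  refine ⟨Fin.cons φ ψ, rfl, ?_⟩
  intro a b
  refine Fin.cases ?_ (fun a => ?_) a
  · refine Fin.cases ?_ (fun b => ?_) b
    · intro h; exact absurd rfl h
    · intro _; exact h2 b
  · refine Fin.cases ?_ (fun b => ?_) b
    · intro _; exact h1 a
    · intro h; exact h3 a b fun h' => h (by rw [h'])

/-- **Two outer primes.** -/
theorem core (hA : FactAll.{u}) (hF : FactFour.{u}) (C : Crd N T e) (hm : 0 < m) {p q : ℕ} [hp : Fact p.Prime]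
    [hq : Fact q.Prime] (hpq : p ≠ q) :
    ∃ θ : IrrCharacter N,
      (p ∣ (centralizer (N : Set G)).index → ¬ p ∣ Nat.card N → p ∣ (H672.inertia N (θ : N → ℂ)).index) ∧
      (q ∣ (centralizer (N : Set G)).index → ¬ q ∣ Nat.card N → q ∣ (H672.inertia N (θ : N → ℂ)).index) := by
  classical
  let x : Fin m := ⟨0, hm⟩
  let _ := C.act
  have hsimple := C.simple x
  have hna := not_comm C x
  obtain ⟨φ, hφ⟩ := hA (T x) hna
  obtain ⟨χ, hχ0, hne⟩ := exists_four hF hna φ
  obtain ⟨Δ, hxΔ, hΔc, hΔ⟩ := exists_cyc C x hp.1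
  obtain ⟨Δ', hxΔ', hΔc', hΔ'⟩ := exists_cyc C x hq.1
  obtain ⟨col, hcx, hcp, hcq⟩ := exists_col hp.1.one_lt hq.1.one_lt hpq hΔc hΔc' hxΔ hxΔ'
  obtain ⟨θ, -, -, hθ, β, hβ⟩ := exists_char C x (fun j => χ (col j))
  have hcol : ∀ g ∈ H672.inertia N (θ : N → ℂ), ∀ j : Fin m, col (g • j) = col j := by
    intro g hg j
    by_contra h
    exact hθ g hg j (hne _ _ h)
  have hχx : χ (col x) = φ := by rw [hcx, hχ0]
  simp only [hχx] at hβ
  refine ⟨θ, fun hpG hpN => ?_, fun hqG hqN => ?_⟩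
  · by_cases h2 : Perm C p
    · obtain ⟨g, k, h3, h4, h5, h6⟩ := hΔ h2
      exact dvd_of_good hcol hcp h3 hxΔ h4 h5 h6
    · exact dvd_of_not_perm C hφ hβ h2 hpG hpN
  · by_cases h2 : Perm C q
    · obtain ⟨g, k, h3, h4, h5, h6⟩ := hΔ' h2
      exact dvd_of_good hcol hcq h3 hxΔ' h4 h5 h6
    · exact dvd_of_not_perm C hφ hβ h2 hqG hqN

/-- **One outer prime `q` and a degree of a factor**, at least two factors. -/
theorem core_mixed (hA : FactAll.{u}) (hF : FactFour.{u}) (C : Crd N T e) (hm : 2 ≤ m) {q : ℕ}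
    [hq : Fact q.Prime] (hqG : q ∣ (centralizer (N : Set G)).index) (hqN : ¬ q ∣ Nat.card N)
    (η : ∀ x : Fin m, IrrCharacter (T x)) :
    ∃ θ : IrrCharacter N, q ∣ (H672.inertia N (θ : N → ℂ)).index ∧
      ∃ x, charDegree (η x : T x → ℂ) ∣ charDegree (θ : N → ℂ) := by
  classical
  let x : Fin m := ⟨0, by omega⟩
  let y : Fin m := ⟨1, by omega⟩
  have hxy : y ≠ x := by
    intro h
    have := congrArg Fin.val h
    exact absurd this (by norm_num [x, y])
  let _ := C.act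
  have hsimple := C.simple x
  have hna := not_comm C x
  by_cases h2 : Perm C q
  · obtain ⟨χ, hχ0, hne⟩ := exists_four hF hna (η x)
    obtain ⟨Δ, hxΔ, hΔc, hΔ⟩ := exists_cyc C x hq.1
    obtain ⟨r, hr, hrq⟩ : ∃ r : ℕ, r.Prime ∧ q ≠ r := by
      by_cases h : q = 2
      · exact ⟨3, Nat.prime_three, by omega⟩
      · exact ⟨2, Nat.prime_two, h⟩
    obtain ⟨col, hcx, hcp, -⟩ := exists_col (Δ' := {x}) hq.1.one_lt hr.one_lt hrq hΔc
      (by rw [Finset.card_singleton]; exact hr.one_lt.le) hxΔ (Finset.mem_singleton_self x)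
    obtain ⟨θ, hdeg, -, hθ, -⟩ := exists_char C x (fun j => χ (col j))
    have hcol : ∀ g ∈ H672.inertia N (θ : N → ℂ), ∀ j : Fin m, col (g • j) = col j := by
      intro g hg j
      by_contra h
      exact hθ g hg j (hne _ _ h)
    have hχx : χ (col x) = η x := by rw [hcx, hχ0]
    obtain ⟨g, k, h3, h4, h5, h6⟩ := hΔ h2
    refine ⟨θ, dvd_of_good hcol hcp h3 hxΔ h4 h5 h6, x, ?_⟩
    have := hdeg x
    rwa [hχx] at this
  · obtain ⟨φ, hφ⟩ := hA (T x) hna
    obtain ⟨θ, hdeg, -, -, β, hβ⟩ := exists_char C x (fun j => if j = x then φ else η x)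
    simp only [if_true] at hβ
    refine ⟨θ, dvd_of_not_perm C hφ hβ h2 hqG hqN, x, ?_⟩
    have := hdeg y
    rwa [if_neg hxy] at this

end crd

end Cfsg.Agent.H401.DG4
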