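import Cfsg.Agent.H401.DG4.Core
import Cfsg.Agent.H730.PairRed
import Cfsg.Agent.H988.DG.Frame

/-!
# Groups with trivial solvable radical: pairs of nonadjacent primes (helper401, S4773)

* `qa` : `G` without solvable normal subgroups, `p ≠ q` prime divisors of `|G|`, not adjacent: there is a normal simple
  non-abelian subgroup `T` with `|C_G(T)|` prime to `p` and `q`, and `p ∣ |T|` or `q ∣ |T|`;
* `caseA` : among four prime divisors of `|G|` two are adjacent.
-/

set_option autoImplicit false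
set_option linter.unusedSectionVars false

namespace Cfsg.Agent.H401.DG4

open Cfsg Cfsg.Agent.H713 Cfsg.Agent.H716.VanRed Cfsg.Agent.H730 Cfsg.Agent.H730.Col
  Cfsg.Agent.H730.PairCrd Subgroup Cfsg.Agent.Characters.Core Cfsg.Agent.H672.Four
open Cfsg.Agent.H671.H5 (Adj)

universe u

/-- no solvable normal subgroups -/
def NoSol (G : Type u) [Group G] : Prop := ∀ M : Subgroup G, M.Normal → Group.IsSolvable M → M = ⊥

section

variable {G : Type u} [Group G] [Finite G]

theorem fitting_eq_bot (h : NoSol G) : fittingSubgroup G = ⊥ := by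
  refine sSup_eq_bot.2 ?_
  rintro M ⟨h1, h2⟩
  exact h M h1 (by have := h2; exact inferInstance)

/-- Itô-Michler for normal subgroups. -/
theorem im_of_dvd (hIM : GIM.{u}) (h : NoSol G) (K : Subgroup G) [hK : K.Normal] {p : ℕ} [hp : Fact p.Prime]
    (hd : p ∣ Nat.card K) : H33.IM p K := by
  by_contra hcon
  obtain ⟨P⟩ := (inferInstance : Nonempty (Sylow p K))
  obtain ⟨h1, h2⟩ := hIM K p hcon P
  have hch : (P : Subgroup K).Characteristic := Sylow.characteristic_of_normal P h1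
  have hn : ((P : Subgroup K).map K.subtype).Normal := ConjAct.normal_of_characteristic_of_normal
  have hs : Group.IsSolvable ((P : Subgroup K).map K.subtype) := by
    refine Group.isSolvable_of_comm ?_
    rintro ⟨_, a, ha, rfl⟩ ⟨_, b, hb, rfl⟩
    apply Subtype.ext
    show K.subtype a * K.subtype b = K.subtype b * K.subtype a
    rw [← map_mul, ← map_mul, h2 a ha b hb]
  have h3 := h _ hn hs
  have h4 : (P : Subgroup K) = ⊥ := (Subgroup.map_eq_bot_iff_of_injective _ K.subtype_injective).1 h3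
  have h5 := P.dvd_card_of_dvd_card hd
  rw [h4, Subgroup.card_bot] at h5
  exact hp.1.one_lt.ne' (Nat.dvd_one.1 h5)

/-- `p` divides the orbit length times the degree -/
def Mv (p : ℕ) (N : Subgroup G) [N.Normal] (θ : IrrCharacter N) : Prop :=
  p ∣ (H672.inertia N (θ : N → ℂ)).index * charDegree (θ : N → ℂ)

theorem im_of_mv {p q : ℕ} (hp : p.Prime) (hq : q.Prime) (hpq : p ≠ q) (N : Subgroup G) [N.Normal]
    {θ : IrrCharacter N} (h1 : Mv p N θ) (h2 : Mv q N θ) : H33.IM (p * q) G := by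
  obtain ⟨χ, hχ, hover⟩ := H672.exists_over_subtype N θ.2
  have h3 := H672.index_mul_charDegree_dvd N hχ θ.2 hover
  exact ⟨⟨χ, hχ⟩, (Nat.Coprime.mul_dvd_of_dvd_of_dvd ((Nat.coprime_primes hp hq).2 hpq) h1 h2).trans h3⟩

/-- two commuting normal subgroups with trivial intersection -/
theorem im_of_mv_two {p q : ℕ} (hp : p.Prime) (hq : q.Prime) (hpq : p ≠ q) (A B : Subgroup G) [A.Normal] [B.Normal]
    (hAB : ∀ a ∈ A, ∀ b ∈ B, a * b = b * a) (hd : A ⊓ B = ⊥) {α : IrrCharacter A} {β : IrrCharacter B}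
    (h1 : Mv p A α) (h2 : Mv q B β) : H33.IM (p * q) G := by
  classical
  let f : A × B →* G :=
    { toFun := fun x => (x.1 : G) * x.2
      map_one' := by simp
      map_mul' := fun x y => by
        change (x.1 : G) * y.1 * (x.2 * y.2) = x.1 * x.2 * (y.1 * y.2)
        have := hAB y.1 y.1.2 x.2 x.2.2
        calc (x.1 : G) * y.1 * (x.2 * y.2) = x.1 * (y.1 * x.2) * y.2 := by group
          _ = x.1 * (x.2 * y.1) * y.2 := by rw [this]
          _ = x.1 * x.2 * (y.1 * y.2) := by group }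
  have hf : Function.Injective f := by
    rw [injective_iff_map_eq_one]
    rintro ⟨x, y⟩ hxy
    have h1 : (x : G) * y = 1 := hxy
    have h3 : (x : G) ∈ B := by
      rw [eq_inv_of_mul_eq_one_left h1]
      exact inv_mem y.2
    have h2 : (x : G) ∈ A ⊓ B := ⟨x.2, h3⟩
    rw [hd, mem_bot] at h2
    rw [h2, one_mul] at h1
    exact Prod.ext (Subtype.ext h2) (Subtype.ext h1)
  have hr : f.range = A ⊔ B := by
    apply le_antisymm
    · rintro _ ⟨x, rfl⟩
      exact mul_mem (mem_sup_left x.1.2) (mem_sup_right x.2.2)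
    · refine sup_le ?_ ?_
      · intro x hx
        exact ⟨(⟨x, hx⟩, 1), by change x * 1 = x; rw [mul_one]⟩
      · intro x hx
        exact ⟨(1, ⟨x, hx⟩), by change 1 * x = x; rw [one_mul]⟩
  have hn : f.range.Normal := by rw [hr]; infer_instance
  let E : A × B ≃* f.range := MonoidHom.ofInjective hf
  let Ψ : A × B → ℂ := fun x => (α : A → ℂ) x.1 * (β : B → ℂ) x.2
  have hΨ : IsIrrCharacter (A × B) Ψ := S0188.isIrr_outer α.2 β.2
  let Θ : f.range → ℂ := Ψ ∘ E.symm
  have hΘ : IsIrrCharacter f.range Θ := isIrr_comp (E.symm : f.range →* A × B) E.symm.surjective hΨ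
  have hE : ∀ x : A × B, ((E x : f.range) : G) = x.1 * x.2 := fun x => rfl
  have hEA : ∀ (g : G) (a : A), MulAut.conjNormal g (E (a, 1)) = E (MulAut.conjNormal g a, 1) := by
    intro g a
    apply Subtype.ext
    rw [MulAut.conjNormal_apply, hE, hE]
    simp
  have hEB : ∀ (g : G) (b : B), MulAut.conjNormal g (E (1, b)) = E (1, MulAut.conjNormal g b) := by
    intro g b
    apply Subtype.ext
    rw [MulAut.conjNormal_apply, hE, hE]
    simp
  have hΘE : ∀ x, Θ (E x) = (α : A → ℂ) x.1 * (β : B → ℂ) x.2 := by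
    intro x
    show Ψ (E.symm (E x)) = _
    rw [E.symm_apply_apply]
  have hiA : H672.inertia f.range Θ ≤ H672.inertia A (α : A → ℂ) := by
    intro g hg
    rw [H672.mem_inertia] at hg ⊢
    funext a
    have h3 := congrFun hg (E (a, 1))
    rw [Function.comp_apply, hEA, hΘE, hΘE] at h3
    exact mul_right_cancel₀ (isIrr_apply_one_ne_zero β.2) h3
  have hiB : H672.inertia f.range Θ ≤ H672.inertia B (β : B → ℂ) := by
    intro g hg
    rw [H672.mem_inertia] at hg ⊢
    funext b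
    have h3 := congrFun hg (E (1, b))
    rw [Function.comp_apply, hEB, hΘE, hΘE] at h3
    exact mul_left_cancel₀ (isIrr_apply_one_ne_zero α.2) h3
  have hdeg : charDegree Θ = charDegree (α : A → ℂ) * charDegree (β : B → ℂ) := by
    apply H672.charDegree_of_eq
    have h3 : Θ 1 = Θ (E 1) := by rw [map_one]
    rw [h3, hΘE, Nat.cast_mul, H672.coe_charDegree α.2, H672.coe_charDegree β.2]
    rfl
  refine im_of_mv hp hq hpq f.range (θ := ⟨Θ, hΘ⟩) ?_ ?_
  · show p ∣ (H672.inertia f.range Θ).index * charDegree Θ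
    rw [hdeg]
    exact (h1 : p ∣ _).trans (Nat.mul_dvd_mul (Subgroup.index_dvd_of_le hiA) (Dvd.intro _ rfl))
  · show q ∣ (H672.inertia f.range Θ).index * charDegree Θ
    rw [hdeg]
    exact (h2 : q ∣ _).trans (Nat.mul_dvd_mul (Subgroup.index_dvd_of_le hiB) (Dvd.intro_left _ rfl))

theorem mv_of_im {p : ℕ} {N : Subgroup G} [N.Normal] (h : H33.IM p N) : ∃ θ : IrrCharacter N, Mv p N θ := by
  obtain ⟨θ, hθ⟩ := h
  exact ⟨θ, hθ.mul_left _⟩

/-- Itô-Michler for simple groups. -/
theorem im_simple (hIM : GIM.{u}) {S : Type u} [Group S] [Finite S] [hS : IsSimpleGroup S] (hna : ¬ IsMulCommutative S)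
    {p : ℕ} [hp : Fact p.Prime] (hd : p ∣ Nat.card S) : H33.IM p S := by
  by_contra hcon
  obtain ⟨P⟩ := (inferInstance : Nonempty (Sylow p S))
  obtain ⟨h1, h2⟩ := hIM S p hcon P
  rcases hS.eq_bot_or_eq_top_of_normal _ h1 with h3 | h3
  · have h5 := P.dvd_card_of_dvd_card hd
    rw [h3, Subgroup.card_bot] at h5
    exact hp.1.one_lt.ne' (Nat.dvd_one.1 h5)
  · apply hna
    rw [h3] at h2
    exact ⟨⟨fun a b => h2 a (Subgroup.mem_top a) b (Subgroup.mem_top b)⟩⟩

theorem inf_cent {N : Subgroup G} [N.Normal] (hmin : ∀ M : Subgroup G, M.Normal → M ≤ N → M = ⊥ ∨ M = N)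
    (hna : ¬ ∀ x ∈ N, ∀ y ∈ N, Commute x y) : N ⊓ centralizer (N : Set G) = ⊥ := by
  rcases hmin (N ⊓ centralizer (N : Set G)) inferInstance inf_le_left with h | h
  · exact h
  · exfalso
    apply hna
    intro a ha b hb
    have h1 : a ∈ N ⊓ centralizer (N : Set G) := by rw [h]; exact ha
    exact (Subgroup.mem_centralizer_iff.1 h1.2 b hb).symm

theorem dvd_index_cent {N : Subgroup G} [N.Normal] (h : N ⊓ centralizer (N : Set G) = ⊥) :
    Nat.card N ∣ (centralizer (N : Set G)).index := by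
  rw [Subgroup.index_eq_card]
  refine Subgroup.card_dvd_of_injective ((QuotientGroup.mk' (centralizer (N : Set G))).comp N.subtype) ?_
  rw [injective_iff_map_eq_one]
  intro x hx
  have h1 : (x : G) ∈ centralizer (N : Set G) := (QuotientGroup.eq_one_iff _).1 hx
  have h2 : (x : G) ∈ N ⊓ centralizer (N : Set G) := ⟨x.2, h1⟩
  rw [h, Subgroup.mem_bot] at h2
  exact Subtype.ext h2

/-- A prime acting on a minimal normal subgroup. -/
theorem exists_mv (hIM : GIM.{u}) (hA : FactAll.{u}) (hF : FactFour.{u}) (h : NoSol G) {N : Subgroup G} [N.Normal]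
    (hmin : ∀ M : Subgroup G, M.Normal → M ≤ N → M = ⊥ ∨ M = N) (hna : ¬ ∀ x ∈ N, ∀ y ∈ N, Commute x y)
    {p : ℕ} [hp : Fact p.Prime] (hd : p ∣ (centralizer (N : Set G)).index) : ∃ θ : IrrCharacter N, Mv p N θ := by
  by_cases hpN : p ∣ Nat.card N
  · exact mv_of_im (im_of_dvd hIM h N hpN)
  · obtain ⟨m, T, e, hm, hsimple, hTna, hTinj, hTN, hTn, hconj, htrans, he, hcoord⟩ :=
      Cfsg.Agent.PermutationGroups.OnanScott.exists_coordinates N hmin hna
    have C : Crd N T e := ⟨hsimple, hTna, hTinj, hTN, hconj, htrans, he, hcoord⟩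
    obtain ⟨r, hr, hrp⟩ : ∃ r : ℕ, r.Prime ∧ p ≠ r := by
      by_cases h : p = 2
      · exact ⟨3, Nat.prime_three, by omega⟩
      · exact ⟨2, Nat.prime_two, h⟩
    have hrf : Fact r.Prime := ⟨hr⟩
    obtain ⟨θ, h1, -⟩ := core hA hF C hm hrp
    exact ⟨θ, (h1 hd hpN).mul_right _⟩

/-- Two primes acting on a minimal normal subgroup which is not simple, or not dividing its order. -/
theorem exists_mv_two (hIM : GIM.{u}) (hA : FactAll.{u}) (hF : FactFour.{u}) {N : Subgroup G} [N.Normal]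
    (hmin : ∀ M : Subgroup G, M.Normal → M ≤ N → M = ⊥ ∨ M = N) (hna : ¬ ∀ x ∈ N, ∀ y ∈ N, Commute x y)
    {p q : ℕ} [hp : Fact p.Prime] [hq : Fact q.Prime] (hpq : p ≠ q) (hd : p ∣ (centralizer (N : Set G)).index)
    (hd' : q ∣ (centralizer (N : Set G)).index) :
    (∃ θ : IrrCharacter N, Mv p N θ ∧ Mv q N θ) ∨ (IsSimpleGroup N ∧ (p ∣ Nat.card N ∨ q ∣ Nat.card N)) := by
  classical
  obtain ⟨m, T, e, hm, hsimple, hTna, hTinj, hTN, hTn, hconj, htrans, he, hcoord⟩ :=
    Cfsg.Agent.PermutationGroups.OnanScott.exists_coordinates N hmin hna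
  have C : Crd N T e := ⟨hsimple, hTna, hTinj, hTN, hconj, htrans, he, hcoord⟩
  by_cases hpN : p ∣ Nat.card N ∨ q ∣ Nat.card N
  swap
  · rw [not_or] at hpN
    left
    obtain ⟨θ, h1, h2⟩ := core hA hF C hm hpq
    exact ⟨θ, (h1 hd hpN.1).mul_right _, (h2 hd' hpN.2).mul_right _⟩
  have hcardT : ∀ i j, Nat.card (T i) = Nat.card (T j) := by
    intro i j
    obtain ⟨a, ha⟩ := C.trans i j
    exact Nat.card_congr (conjIso a ha).toEquiv
  have hdvdT : ∀ r : ℕ, r.Prime → r ∣ Nat.card N → ∀ i, r ∣ Nat.card (T i) := by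
    intro r hr hrN i
    rw [Nat.card_congr e.toEquiv, Nat.card_pi, Prime.dvd_finsetProd_iff hr.prime] at hrN
    obtain ⟨j, -, hj⟩ := hrN
    rwa [hcardT i j]
  have him : ∀ (r : ℕ) [Fact r.Prime], r ∣ Nat.card N → ∀ i, ∃ η : IrrCharacter (T i), r ∣ charDegree (η : T i → ℂ) := by
    intro r hr hrN i
    have := hsimple i
    exact im_simple hIM (not_comm C i) (hdvdT r hr.1 hrN i)
  rcases Nat.lt_or_ge 1 m with hm2 | hm1
  · left
    have mixed : ∀ (r s : ℕ) [Fact r.Prime] [Fact s.Prime], r ∣ Nat.card N → ¬ s ∣ Nat.card N →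
        s ∣ (centralizer (N : Set G)).index → ∃ θ : IrrCharacter N, Mv r N θ ∧ Mv s N θ := by
      intro r s _ _ hr hs hsd
      choose η hη using him r hr
      obtain ⟨θ, h1, x, h2⟩ := core_mixed hA hF C hm2 hsd hs η
      exact ⟨θ, ((hη x).trans h2).mul_left _, h1.mul_right _⟩
    by_cases h1 : p ∣ Nat.card N
    · by_cases h2 : q ∣ Nat.card N
      · let x : Fin m := ⟨0, by omega⟩
        let y : Fin m := ⟨1, by omega⟩
        have hxy : x ≠ y := by
          intro h
          have := congrArg Fin.val h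
          exact absurd this (by norm_num [x, y])
        obtain ⟨η, hη⟩ := him p h1 x
        obtain ⟨η', hη'⟩ := him q h2 x
        obtain ⟨θ, hdeg, -, -, -⟩ := exists_char C x (fun j => if j = x then η else η')
        refine ⟨θ, ?_, ?_⟩
        · have := hdeg x
          simp only [if_true] at this
          exact (hη.trans this).mul_left _
        · have := hdeg y
          rw [if_neg hxy.symm] at this
          exact (hη'.trans this).mul_left _
      · exact mixed p q h1 h2 hd'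
    · obtain ⟨θ, h3, h4⟩ := mixed q p (hpN.resolve_left h1) h1 hd
      exact ⟨θ, h4, h3⟩
  · right
    refine ⟨?_, hpN⟩
    let o : Fin m := ⟨0, hm⟩
    have hm' : ∀ i : Fin m, i = o := by
      intro i
      apply Fin.ext
      have := i.2
      simp only [o]
      omega
    have hNT : N = T o := by
      apply le_antisymm _ (hTN o)
      intro n hn
      have h1 : (⟨n, hn⟩ : N) = e.symm (Pi.mulSingle o (e ⟨n, hn⟩ o)) := by
        apply e.injective
        rw [MulEquiv.apply_symm_apply]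
        funext i
        rw [hm' i, Pi.mulSingle_eq_same]
      have h2 := congrArg (Subtype.val : N → G) h1
      rw [he] at h2
      rw [show n = ((⟨n, hn⟩ : N) : G) from rfl, h2]
      exact (e ⟨n, hn⟩ o).2
    rw [hNT]
    exact hsimple o

/-- two different minimal normal subgroups -/
theorem inf_of_ne {N N' : Subgroup G} [hN : N.Normal] [hN' : N'.Normal]
    (hmin : ∀ M : Subgroup G, M.Normal → M ≤ N → M = ⊥ ∨ M = N)
    (hmin' : ∀ M : Subgroup G, M.Normal → M ≤ N' → M = ⊥ ∨ M = N') (hN0 : N ≠ ⊥) (hne : N ≠ N') : N ⊓ N' = ⊥ := by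
  rcases hmin (N ⊓ N') inferInstance inf_le_left with h | h
  · exact h
  · exfalso
    have h2 : N ≤ N' := by rw [← h]; exact inf_le_right
    rcases hmin' N hN h2 with h3 | h3
    · exact hN0 h3
    · exact hne h3

theorem comm_of_inf {A B : Subgroup G} [hA : A.Normal] [hB : B.Normal] (h : A ⊓ B = ⊥) :
    ∀ a ∈ A, ∀ b ∈ B, a * b = b * a := by
  intro a ha b hb
  exact (Subgroup.commute_of_normal_of_disjoint A B hA hB (disjoint_iff.2 h) a b ha hb).eq

/-- **Pairs of nonadjacent primes.** -/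
theorem qa (hIM : GIM.{u}) (hA : FactAll.{u}) (hF : FactFour.{u}) (h : NoSol G) {p q : ℕ} (hp : p.Prime) (hq : q.Prime)
    (hpq : p ≠ q) (hpG : p ∣ Nat.card G) (hqG : q ∣ Nat.card G) (hn : ¬ H33.IM (p * q) G) :
    ∃ T : Subgroup G, T.Normal ∧ IsSimpleGroup T ∧ ¬ IsMulCommutative T ∧ (p ∣ Nat.card T ∨ q ∣ Nat.card T) ∧
      ¬ p ∣ Nat.card (centralizer (T : Set G)) ∧ ¬ q ∣ Nat.card (centralizer (T : Set G)) := by
  have hpf : Fact p.Prime := ⟨hp⟩
  have hqf : Fact q.Prime := ⟨hq⟩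
  have hfit := fitting_eq_bot h
  obtain ⟨N, hN, hN0, hmin, hpN⟩ := PairRed.exists_min_dvd hfit hp hpG
  obtain ⟨N', hN', hN0', hmin', hqN'⟩ := PairRed.exists_min_dvd hfit hq hqG
  have hna := PairRed.not_comm_of_fitting hfit N hN0
  have hna' := PairRed.not_comm_of_fitting hfit N' hN0'
  rw [← Subgroup.index_eq_card] at hpN hqN'
  obtain ⟨θ, hθ⟩ := exists_mv hIM hA hF h hmin hna hpN
  obtain ⟨θ', hθ'⟩ := exists_mv hIM hA hF h hmin' hna' hqN'
  have hNN : N = N' := by
    by_contra hne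
    have hinf := inf_of_ne hmin hmin' hN0 hne
    exact hn (im_of_mv_two hp hq hpq N N' (comm_of_inf hinf) hinf hθ hθ')
  subst hNN
  rcases exists_mv_two hIM hA hF hmin hna hpq hpN hqN' with ⟨θ, h1, h2⟩ | ⟨hs, h1⟩
  · exact absurd (im_of_mv hp hq hpq N h1 h2) hn
  · have hinf := inf_cent hmin hna
    have hinf' : centralizer (N : Set G) ⊓ N = ⊥ := by rw [inf_comm]; exact hinf
    refine ⟨N, hN, hs, ?_, h1, ?_, ?_⟩
    · intro hc
      apply hna
      intro a ha b hb
      exact congrArg Subtype.val (hc.is_comm.comm (⟨a, ha⟩ : N) ⟨b, hb⟩)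
    · intro hd
      obtain ⟨ψ, hψ⟩ := mv_of_im (im_of_dvd hIM h (centralizer (N : Set G)) hd)
      exact hn (im_of_mv_two hp hq hpq _ N (comm_of_inf hinf') hinf' hψ hθ')
    · intro hd
      obtain ⟨ψ, hψ⟩ := mv_of_im (im_of_dvd hIM h (centralizer (N : Set G)) hd)
      exact hn (im_of_mv_two hp hq hpq N _ (comm_of_inf hinf) hinf hθ hψ)

theorem min_of_simple {T : Subgroup G} [T.Normal] (hs : IsSimpleGroup T) :
    ∀ M : Subgroup G, M.Normal → M ≤ T → M = ⊥ ∨ M = T := by
  intro M hM hMT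
  have h1 : (M.subgroupOf T).Normal := inferInstance
  rcases hs.eq_bot_or_eq_top_of_normal _ h1 with h2 | h2
  · left
    rw [Subgroup.subgroupOf_eq_bot] at h2
    rw [eq_bot_iff]
    intro x hx
    exact (Subgroup.disjoint_def.1 h2) hx (hMT hx)
  · right
    exact le_antisymm hMT (Subgroup.subgroupOf_eq_top.1 h2)

/-- at most one of two nonadjacent primes does not divide `|T|` -/
theorem inner (hA : FactAll.{u}) (hF : FactFour.{u}) {T : Subgroup G} [hT : T.Normal] (hs : IsSimpleGroup T)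
    (hna : ¬ IsMulCommutative T) {p q : ℕ} (hp : p.Prime) (hq : q.Prime) (hpq : p ≠ q) (hpG : p ∣ Nat.card G)
    (hqG : q ∣ Nat.card G) (hpC : ¬ p ∣ Nat.card (centralizer (T : Set G)))
    (hqC : ¬ q ∣ Nat.card (centralizer (T : Set G))) (hn : ¬ H33.IM (p * q) G) : p ∣ Nat.card T ∨ q ∣ Nat.card T := by
  have hpf : Fact p.Prime := ⟨hp⟩
  have hqf : Fact q.Prime := ⟨hq⟩
  by_contra hcon
  rw [not_or] at hcon
  have hmin := min_of_simple hs
  have hna' : ¬ ∀ x ∈ T, ∀ y ∈ T, Commute x y := fun h =>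
    hna ⟨⟨fun a b => Subtype.ext (h a a.2 b b.2)⟩⟩
  obtain ⟨m, T', e, hm, hsimple, hTna, hTinj, hTN, hTn, hconj, htrans, he, hcoord⟩ :=
    Cfsg.Agent.PermutationGroups.OnanScott.exists_coordinates T hmin hna'
  have C : Crd T T' e := ⟨hsimple, hTna, hTinj, hTN, hconj, htrans, he, hcoord⟩
  have hidx : ∀ r : ℕ, r.Prime → r ∣ Nat.card G → ¬ r ∣ Nat.card (centralizer (T : Set G)) →
      r ∣ (centralizer (T : Set G)).index := by
    intro r hr h1 h2
    rw [← Subgroup.card_mul_index (centralizer (T : Set G)), hr.dvd_mul] at h1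
    exact h1.resolve_left h2
  obtain ⟨θ, h1, h2⟩ := core hA hF C hm hpq
  exact hn (im_of_mv hp hq hpq T (θ := θ) ((h1 (hidx p hp hpG hpC) hcon.1).mul_right _)
    ((h2 (hidx q hq hqG hqC) hcon.2).mul_right _))

/-- **The case of a trivial solvable radical.** -/
theorem caseA (hIM : GIM.{u}) (h4 : FactInd4.{u}) (hA : FactAll.{u}) (hL : FactL2A.{u}) (hF : FactFour.{u})
    (h : NoSol G) (s : Finset ℕ) (hcard : s.card = 4) (hs : ∀ p ∈ s, p.Prime ∧ p ∣ Nat.card G) :
    ∃ p ∈ s, ∃ q ∈ s, Adj p q G := by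
  classical
  by_contra hcon
  push Not at hcon
  have hn : ∀ p ∈ s, ∀ q ∈ s, p ≠ q → ¬ H33.IM (p * q) G := by
    intro p hp q hq hpq hi
    exact hcon p hp q hq (H988.DG.adj_iff.2 ⟨hpq, (hs p hp).1, (hs q hq).1, hi⟩)
  -- the simple normal subgroup
  obtain ⟨p, hp, q, hq, hpq⟩ := Finset.one_lt_card.1 (by omega : 1 < s.card)
  obtain ⟨T, hT, hTs, hTna, hor, hpC, hqC⟩ := qa hIM hA hF h (hs p hp).1 (hs q hq).1 hpq (hs p hp).2 (hs q hq).2
    (hn p hp q hq hpq)
  set C : Subgroup G := centralizer (T : Set G) with hC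
  have hmin := min_of_simple hTs
  have hna : ¬ ∀ x ∈ T, ∀ y ∈ T, Commute x y := fun h =>
    hTna ⟨⟨fun a b => Subtype.ext (h a a.2 b b.2)⟩⟩
  have hinf : T ⊓ C = ⊥ := inf_cent hmin hna
  have hcomm := comm_of_inf hinf
  -- no prime of `s` divides the order of the centralizer
  have hCs : ∀ r ∈ s, ¬ r ∣ Nat.card C := by
    intro r hr hd
    obtain ⟨p0, hp0, hp0T, hp0C⟩ : ∃ p0 ∈ s, p0 ∣ Nat.card T ∧ ¬ p0 ∣ Nat.card C := by
      rcases hor with h1 | h1
      · exact ⟨p, hp, h1, hpC⟩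
      · exact ⟨q, hq, h1, hqC⟩
    have hf1 : Fact r.Prime := ⟨(hs r hr).1⟩
    have hf2 : Fact p0.Prime := ⟨(hs p0 hp0).1⟩
    refine hn p0 hp0 r hr (fun h => hp0C (h ▸ hd)) ?_
    exact H988.DG.im_of_two T C hcomm hinf (im_of_dvd hIM h T hp0T) (im_of_dvd hIM h C hd)
  have hinner : ∀ p ∈ s, ∀ q ∈ s, p ≠ q → p ∣ Nat.card T ∨ q ∣ Nat.card T := fun p hp q hq hpq =>
    inner hA hF hTs hTna (hs p hp).1 (hs q hq).1 hpq (hs p hp).2 (hs q hq).2 (hCs p hp) (hCs q hq) (hn p hp q hq hpq)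
  have hup : ∀ {m : ℕ}, H33.IM m T → H33.IM m G := fun h => h.of_normal T
  by_cases hall : ∀ r ∈ s, r ∣ Nat.card T
  · obtain ⟨a, ha, b, hb, hab⟩ := h4 T hTna s hcard fun r hr => ⟨(hs r hr).1, hall r hr⟩
    obtain ⟨h1, -, -, h2⟩ := H988.DG.adj_iff.1 hab
    exact hn a ha b hb h1 (hup h2)
  · push Not at hall
    obtain ⟨t, ht, htT⟩ := hall
    have hrest : ∀ r ∈ s.erase t, r.Prime ∧ r ∣ Nat.card T := by
      intro r hr
      rw [Finset.mem_erase] at hr
      exact ⟨(hs r hr.2).1, (hinner t ht r hr.2 hr.1.symm).resolve_left htT⟩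
    -- the quotient by the centralizer
    have hCn : C.Normal := inferInstance
    have hqf := PairRed.quot_facts T hmin hna
    set π := QuotientGroup.mk' C with hπ
    have hπs : Function.Surjective π := QuotientGroup.mk'_surjective C
    have hSn : (T.map π).Normal := Subgroup.Normal.map inferInstance _ hπs
    have hinj : Function.Injective (π.comp T.subtype) := by
      rw [injective_iff_map_eq_one]
      intro x hx
      have h1 : (x : G) ∈ C := (QuotientGroup.eq_one_iff _).1 hx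
      have h2 : (x : G) ∈ T ⊓ C := ⟨x.2, h1⟩
      rw [hinf, Subgroup.mem_bot] at h2
      exact Subtype.ext h2
    let e : T ≃* T.map π := MulEquiv.ofBijective (π.subgroupMap T) ⟨by
      intro a b hab
      exact hinj (congrArg Subtype.val hab), MonoidHom.subgroupMap_surjective π T⟩
    have hcardS : Nat.card (T.map π) = Nat.card T := (Nat.card_congr e.toEquiv).symm
    have hSs : IsSimpleGroup (T.map π) := e.symm.isSimpleGroup
    have hSna : ¬ IsMulCommutative (T.map π) := by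
      intro hc
      apply hTna
      refine ⟨⟨fun a b => e.injective ?_⟩⟩
      rw [map_mul, map_mul]
      exact hc.is_comm.comm _ _
    obtain ⟨r, hr, hadj⟩ := hL (G ⧸ C) (T.map π) hSs hSna hqf.2.2 t (hs t ht).1 (by
        have h1 := (hs t ht).2
        rw [← Subgroup.card_mul_index C, (hs t ht).1.dvd_mul] at h1
        rw [← Subgroup.index_eq_card]
        exact h1.resolve_left (hCs t ht)) (by rw [hcardS]; exact htT) (s.erase t)
      (by rw [Finset.card_erase_of_mem ht, hcard]) (by rw [hcardS]; exact hrest) (by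
        intro a ha b hb hab
        obtain ⟨h1, -, -, h2⟩ := H988.DG.adj_iff.1 hab
        exact hn a (Finset.mem_of_mem_erase ha) b (Finset.mem_of_mem_erase hb) h1 (hup ((H33.IM.congr e).2 h2)))
    obtain ⟨h1, -, -, h2⟩ := H988.DG.adj_iff.1 hadj
    exact hn t ht r (Finset.mem_of_mem_erase hr) h1 (h2.of_quotient C)

end

end Cfsg.Agent.H401.DG4
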